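import Cfsg.Agent.PQBrauer.TwoBlock

/-!
A simple group of order `p q ^ b g₀` with `g₀ < p - 1` has few Sylow `p`-subgroups, which are self centralising.
-/

set_option autoImplicit false
set_option linter.style.haveILetI false
set_option linter.unusedSectionVars false

namespace CfsgLib.PQBrauer

open Cfsg CfsgLib.CharBasics CfsgLib.DefectOne

universe u

variable {G : Type u} [Group G] [Fintype G] {p : ℕ} [Fact p.Prime] {D : Data G p}

/-- Degrees modulo `p` when `p = 2 ^ m ± 1`. -/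
theorem deg_shape {p m y d i : ℕ} {ε s : ℤ} (hp : p.Prime) (hε : ε = 1 ∨ ε = -1) (hs : s = 1 ∨ s = -1)
    (hm : (p : ℤ) ∣ (2 : ℤ) ^ m - ε) (hm1 : 1 ≤ m) (hy : y + 2 ^ (m - 1) = p) (hyp : y + 1 < p)
    (hd : ¬ 2 ∣ d) (hdy : d ≤ y) (hd1 : d ≠ 1) (hf : (p : ℤ) ∣ ((2 ^ i * d : ℕ) : ℤ) - s) :
    d = y ∧ (i = 1 ∨ m + 1 ≤ i) := by
  have h1 : (p : ℤ) ∣ (2 : ℤ) ^ (m * (i / m)) - ε ^ (i / m) := by
    rw [pow_mul]
    exact hm.trans (sub_dvd_pow_sub_pow _ _ _)
  have hi : m * (i / m) + i % m = i := Nat.div_add_mod i m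
  have hk : i % m < m := Nat.mod_lt _ (by omega)
  have hεl : ε ^ (i / m) = 1 ∨ ε ^ (i / m) = -1 := by
    rcases hε with e | e <;> rw [e]
    · exact Or.inl (one_pow _)
    · exact neg_one_pow_eq_or ℤ _
  set L := ε ^ (i / m) with hL
  have hLL : L * L = 1 := by rcases hεl with e | e <;> rw [e] <;> norm_num
  have h2 : (p : ℤ) ∣ (2 : ℤ) ^ (i % m) * d - L * s := by
    have h3 : (p : ℤ) ∣ L * (((2 ^ i * d : ℕ) : ℤ) - s) - L * (2 ^ (i % m) * (d : ℤ)) * ((2 : ℤ) ^ (m * (i / m)) - L) :=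
      dvd_sub (hf.mul_left _) (h1.mul_left _)
    convert h3 using 1
    rw [Nat.cast_mul, Nat.cast_pow, Nat.cast_ofNat]
    conv_rhs => arg 1; arg 2; arg 1; rw [← hi, pow_add]
    linear_combination -((2 : ℤ) ^ (i % m) * d) * hLL
  have hLs : L * s = 1 ∨ L * s = -1 := by
    rcases hεl with e | e <;> rcases hs with e' | e' <;> rw [e, e'] <;> norm_num
  have hd0 : 2 ≤ d := by omega
  rcases Nat.eq_zero_or_pos (i % m) with hk0 | hk0
  · exfalso
    rw [hk0, pow_zero, one_mul] at h2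
    have h4 := Int.le_of_dvd (by omega) h2
    omega
  · set j := m - i % m with hj
    have h5 : (p : ℤ) ∣ (d : ℤ) - ε * (L * s) * (2 : ℤ) ^ j := by
      have h6 : (p : ℤ) ∣ ε * ((2 : ℤ) ^ j * ((2 : ℤ) ^ (i % m) * d - L * s) - (d : ℤ) * ((2 : ℤ) ^ m - ε)) :=
        (dvd_sub (h2.mul_left _) (hm.mul_left _)).mul_left _
      convert h6 using 1
      have hεε : ε * ε = 1 := by rcases hε with e | e <;> rw [e] <;> norm_num
      have hpw : (2 : ℤ) ^ j * (2 : ℤ) ^ (i % m) = (2 : ℤ) ^ m := by rw [← pow_add]; congr 1; omega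
      linear_combination -ε * (d : ℤ) * hpw - (d : ℤ) * hεε
    have hjm : 2 ^ j ≤ 2 ^ (m - 1) := Nat.pow_le_pow_right two_pos (by omega)
    have hjeven : 2 ∣ 2 ^ j := dvd_pow_self 2 (by omega)
    have hne : (d : ℤ) - (2 ^ j : ℕ) ≠ 0 := by
      intro e
      have : d = 2 ^ j := by omega
      exact hd (this ▸ hjeven)
    have hsum : d + 2 ^ j = p := by
      have hεL : ε * (L * s) = 1 ∨ ε * (L * s) = -1 := by
        rcases hε with e | e <;> rcases hLs with e' | e' <;> rw [e, e'] <;> norm_num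
      have hcast : ((2 ^ j : ℕ) : ℤ) = (2 : ℤ) ^ j := by push_cast; rfl
      have hj0 : (0 : ℤ) ≤ ((2 ^ j : ℕ) : ℤ) := Int.natCast_nonneg _
      rcases hεL with e | e <;> rw [e, ← hcast] at h5
      · exfalso
        rw [one_mul] at h5
        have h7 := Int.le_of_dvd (abs_pos.2 hne) ((dvd_abs _ _).2 h5)
        have h8 : |(d : ℤ) - (2 ^ j : ℕ)| < p := abs_lt.2 ⟨by omega, by omega⟩
        omega
      · have h7 : (p : ℤ) ∣ ((d + 2 ^ j : ℕ) : ℤ) := by
          convert h5 using 1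
          push_cast; ring
        have h8 := Nat.le_of_dvd (by omega) (Int.natCast_dvd_natCast.1 h7)
        omega
    refine ⟨by omega, ?_⟩
    have h9 : j = m - 1 := Nat.pow_right_injective le_rfl (show 2 ^ j = 2 ^ (m - 1) by omega)
    have hk1 : i % m = 1 := by omega
    rcases Nat.eq_zero_or_pos (i / m) with h10 | h10
    · left
      rw [h10, mul_zero] at hi
      omega
    · right
      have : m * 1 ≤ m * (i / m) := Nat.mul_le_mul_left _ h10
      omega

/-- The bound on the exponent of two. -/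
theorem lt_two_mul [IsSimpleGroup G] (hna : ¬ IsMulCommutative G) {b y m : ℕ} {F : D.Family D.one}
    (h : Shape D 2 b y F y) (hcard : Nat.card G = p * 2 ^ b * y) (hb : 1 ≤ b)
    (hc : F.ε = 1 ∧ p + 1 = 2 ^ m ∧ y = Nat.card D.H ∧ p = 2 * y + 1 ∧ 2 ≤ m ∨
      F.ε = -1 ∧ p = 2 ^ m + 1 ∧ y = Nat.card D.H + 1 ∧ p = 2 * Nat.card D.H + 1 ∧ 3 ≤ m) : b < 2 * m := by
  have hp : p.Prime := Fact.out
  have hy1 := h.one_lt
  set e := Nat.card D.H with he
  set U := 2 ^ (m - 1) with hU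
  have hm0 : 1 ≤ m := by omega
  have h2U : 2 ^ m = 2 * U := by rw [hU, ← pow_succ']; congr 1; omega
  have hp2 : p ≠ 2 := by omega
  have hyU : y + U = p := by omega
  have hU2' : 2 ≤ U := (pow_one 2).symm.le.trans (Nat.pow_le_pow_right two_pos (show 1 ≤ m - 1 by omega))
  have hyp1 : y + 1 < p := by omega
  obtain ⟨R, u, s, K, C, hRc, hKodd, hCK, hdvd, hsq, hR⟩ := two_block D hna hp2 h hcard hb (by omega)
  by_contra hlt
  push Not at hlt
  have hε : F.ε = 1 ∨ F.ε = -1 := F.sign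
  have hm : (p : ℤ) ∣ (2 : ℤ) ^ m - F.ε := by
    have hcast : ((2 ^ m : ℕ) : ℤ) = (2 : ℤ) ^ m := by push_cast; rfl
    rw [← hcast]
    rcases hc with ⟨e1, e2, -⟩ | ⟨e1, e2, -⟩ <;> rw [e1]
    · exact ⟨1, by omega⟩
    · exact ⟨1, by omega⟩
  have hterm : ∀ χ ∈ R, (y : ℤ) ∣ (charDegree (χ : G → ℂ) : ℤ) ∧
      (2 ^ (m + 1) : ℤ) * (charDegree (χ : G → ℂ) : ℤ) ≤ 2 ^ (m + 1) * (2 * y) + u χ ^ 2 * K := by
    intro χ hχ
    obtain ⟨-, -, hs, hcong, -, hfd, hlt', hu0, hdu⟩ := hR χ hχ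
    set f := charDegree (χ : G → ℂ) with hf
    obtain ⟨i, d, hd, hfid⟩ := Nat.exists_eq_pow_mul_and_not_dvd (charDegree_pos χ.2).ne' 2 (by norm_num)
    rw [← hf] at hfid
    have hdy : d ∣ y := by
      have h1 : d ∣ 2 ^ b * y := (Dvd.intro_left _ hfid.symm).trans hfd
      exact Nat.Coprime.dvd_of_dvd_mul_left ((Nat.prime_two.coprime_iff_not_dvd.2 hd).symm.pow_right b) h1
    have h2i : 2 ^ i ∣ (u χ).natAbs := by
      refine Nat.Coprime.dvd_of_dvd_mul_right ?_ ((Dvd.intro _ hfid.symm).trans hdu)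
      exact (Nat.coprime_two_left.2 hKodd).pow_left i
    have hupos : 0 < (u χ).natAbs := Int.natAbs_pos.2 hu0
    have hu2i := Nat.le_of_dvd hupos h2i
    have hd1 : d ≠ 1 := by
      intro e
      rw [hfid, e, mul_one, Int.abs_eq_natAbs] at hlt'
      omega
    obtain ⟨rfl, hi⟩ := deg_shape hp hε hs hm hm0 hyU hyp1 hd (Nat.le_of_dvd (by omega) hdy) hd1
      (hfid ▸ hcong)
    refine ⟨Int.natCast_dvd_natCast.2 (Dvd.intro_left _ hfid.symm), ?_⟩
    rcases hi with rfl | hi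
    · rw [hfid]
      have h0 : (0 : ℤ) ≤ u χ ^ 2 * K := by positivity
      push_cast
      linarith
    · have hfu := Nat.le_of_dvd (Nat.mul_pos hupos hKodd.pos) hdu
      have h3 : 2 ^ (m + 1) * f ≤ (u χ).natAbs * ((u χ).natAbs * K) :=
        Nat.mul_le_mul ((Nat.pow_le_pow_right two_pos hi).trans hu2i) hfu
      have h4 : ((2 ^ (m + 1) * f : ℕ) : ℤ) ≤ (((u χ).natAbs * ((u χ).natAbs * K) : ℕ) : ℤ) := by
        exact_mod_cast h3
      push_cast at h4
      rw [← mul_assoc, abs_mul_abs_self, ← sq] at h4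
      have h5 : (0 : ℤ) ≤ 2 ^ (m + 1) * (2 * (d : ℤ)) := by positivity
      linarith
  set T := 1 - F.ε * (y : ℤ) + ∑ χ ∈ R, s χ * (charDegree (χ : G → ℂ) : ℤ) with hT
  have hT0 : T ≠ 0 := by
    intro h0
    have h1 : (y : ℤ) ∣ -(F.ε * (y : ℤ)) + ∑ χ ∈ R, s χ * (charDegree (χ : G → ℂ) : ℤ) :=
      dvd_add ((dvd_mul_left _ _).neg_right) (Finset.dvd_sum fun χ hχ => (hterm χ hχ).1.mul_left _)
    rw [show -(F.ε * (y : ℤ)) + ∑ χ ∈ R, s χ * (charDegree (χ : G → ℂ) : ℤ) = -1 by linarith, Int.dvd_neg] at h1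
    have := Int.le_of_dvd one_pos h1
    omega
  have hle : (2 : ℤ) ^ b ≤ |T| := Int.le_of_dvd (abs_pos.2 hT0) ((dvd_abs _ _).2 hdvd)
  have habs : |T| ≤ 1 + (y : ℤ) + ∑ χ ∈ R, (charDegree (χ : G → ℂ) : ℤ) := by
    refine (abs_add_le _ _).trans (add_le_add ?_ ((Finset.abs_sum_le_sum_abs _ _).trans
      (Finset.sum_le_sum fun χ hχ => ?_)))
    · rcases hε with e | e <;> rw [e] <;> rw [abs_le] <;> constructor <;> omega
    · rcases (hR χ hχ).2.2.1 with e | e <;> simp [e]
  have hS : (2 ^ (m + 1) : ℤ) * ∑ χ ∈ R, (charDegree (χ : G → ℂ) : ℤ) ≤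
      ((e : ℤ) - 1) * (2 ^ (m + 1) * (2 * y)) + 2 ^ b * y := by
    rw [Finset.mul_sum]
    refine (Finset.sum_le_sum fun χ hχ => (hterm χ hχ).2).trans ?_
    rw [Finset.sum_add_distrib, Finset.sum_const, nsmul_eq_mul, ← Finset.sum_mul]
    have hCK' : (C : ℤ) * K = 2 ^ b * y := by exact_mod_cast hCK
    refine add_le_add (mul_le_mul_of_nonneg_right ?_ (by positivity))
      (le_trans (mul_le_mul_of_nonneg_right hsq (Int.natCast_nonneg _)) hCK'.le)
    have : ((R.card : ℕ) : ℤ) + 1 ≤ e := by exact_mod_cast hRc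
    omega
  set Z := (2 : ℤ) ^ b with hZ
  have h4U : (2 : ℤ) ^ (m + 1) = 4 * (U : ℤ) := by
    have : 2 ^ (m + 1) = 4 * U := by rw [pow_succ', h2U]; ring
    exact_mod_cast this
  have hZU : 4 * (U : ℤ) * U ≤ Z := by
    have : 2 * U * (2 * U) ≤ 2 ^ b := by
      rw [← h2U, ← pow_add]
      exact Nat.pow_le_pow_right two_pos (by omega)
    have h' : ((2 * U * (2 * U) : ℕ) : ℤ) ≤ ((2 ^ b : ℕ) : ℤ) := by exact_mod_cast this
    push_cast at h'
    linarith
  rw [h4U] at hS
  have hUpos : (0 : ℤ) < U := by positivity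
  have hmain : 4 * (U : ℤ) * Z ≤ 4 * U * (1 + y + ((e : ℤ) - 1) * (2 * y)) + Z * y := by
    have h1 := mul_le_mul_of_nonneg_left (hle.trans habs) (show (0 : ℤ) ≤ 4 * U by positivity)
    nlinarith
  rcases hc with ⟨-, e2, e3, e4, hm2⟩ | ⟨-, e2, e3, e4, hm3⟩
  · have hy' : (y : ℤ) = (U : ℤ) - 1 := by omega
    have he' : (e : ℤ) = (U : ℤ) - 1 := by omega
    have hU2 : (2 : ℤ) ≤ U := by
      have : 2 ^ 1 ≤ U := Nat.pow_le_pow_right two_pos (by omega)
      omega
    rw [hy', he'] at hmain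
    have hpos : (0 : ℤ) < U * ((U : ℤ) * U + 6 * U - 4) := mul_pos hUpos (by nlinarith)
    nlinarith [mul_le_mul_of_nonneg_left hZU (show (0 : ℤ) ≤ 3 * U + 1 by positivity)]
  · have hy' : (y : ℤ) = (U : ℤ) + 1 := by omega
    have he' : (e : ℤ) = (U : ℤ) := by omega
    have hU4 : (4 : ℤ) ≤ U := by
      have : 2 ^ 2 ≤ U := Nat.pow_le_pow_right two_pos (by omega)
      omega
    rw [hy', he'] at hmain
    have hpos : (0 : ℤ) < U * U * ((U : ℤ) - 2) := mul_pos (mul_pos hUpos hUpos) (by linarith)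
    nlinarith [mul_le_mul_of_nonneg_left hZU (show (0 : ℤ) ≤ 3 * U - 1 by linarith)]

theorem main [IsSimpleGroup G] (hna : ¬ IsMulCommutative G) {q b g₀ : ℕ} (hq : q.Prime) (hpq : p ≠ q)
    (hcard : Nat.card G = p * q ^ b * g₀) (hg : g₀ < p - 1) :
    ∃ z : G, orderOf z = p ∧ Subgroup.centralizer ({z} : Set G) = Subgroup.zpowers z ∧
      2 * Nat.card (Sylow p G) < (p + 1) * (p + 2) ∧ ∃ m : ℕ, p = 2 ^ m + 1 ∨ p = 2 ^ m - 1 := by
  classical
  haveI : Fintype (IrrCharacter G) := Fintype.ofFinite _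
  have hp : p.Prime := Fact.out
  have hg0 : 0 < g₀ := Nat.pos_of_ne_zero fun e => Nat.card_pos.ne' (hcard.trans (by rw [e, mul_zero]))
  have hnp : ¬ p ∣ q ^ b * g₀ := fun hd => by
    rcases hp.dvd_mul.1 hd with hd | hd
    · exact hpq ((Nat.prime_dvd_prime_iff_eq hp hq).1 (hp.dvd_of_dvd_pow hd))
    · have := Nat.le_of_dvd hg0 hd; omega
  obtain ⟨P⟩ : Nonempty (Sylow p G) := inferInstance
  have hP : Nat.card P = p := by
    have hq0 : q ^ b * g₀ ≠ 0 := Nat.mul_ne_zero (pow_ne_zero b hq.ne_zero) hg0.ne'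
    rw [show Nat.card P = Nat.card (P : Subgroup G) from rfl, P.card_eq_multiplicity, hcard, mul_assoc,
      Nat.factorization_mul hp.ne_zero hq0, Finsupp.add_apply, hp.factorization_self,
      Nat.factorization_eq_zero_of_not_dvd hnp, pow_one]
  obtain ⟨D, hD⟩ := exists_data P hP
  obtain ⟨M, hM⟩ := Blocks.exists_modular hp
  obtain ⟨F, y, h⟩ := exists_shape D hna hq hcard hg0 hg hM
  refine ⟨D.x, D.hx, centralizer_x D h.cardV, ?_⟩
  set e := Nat.card D.H with he
  have hH : D.V.index = e := by rw [he, ← Subgroup.index_mul_card D.V, h.cardV, mul_one]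
  set N := Nat.card (Sylow p G) with hN
  have hNe : e * N = q ^ b * g₀ := by
    refine Nat.eq_of_mul_eq_mul_left hp.pos ?_
    rw [← mul_assoc p (q ^ b), ← hcard, ← mul_assoc, he, ← D.card_normalizer, hD, hN, P.card_eq_index_normalizer]
    exact Subgroup.card_mul_index _
  have hU := D.card_U_mul_index D.one
  rw [D.card_U_one, hH] at hU
  have hle : e * 2 ≤ p - 1 := hU ▸ Nat.mul_le_mul_left _ h.two_le
  have hy1 := h.one_lt
  have hyg := h.le_g
  -- the relation, without the principal character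
  let R0 : Finset (IrrCharacter G) := Finset.univ.filter fun χ => χ ∈ D.rest F ∧ χ ≠ oneChar
  have hrel : (F.ε : ℤ) * y + ∑ χ ∈ R0, D.d χ 1 D.one * (charDegree (χ : G → ℂ) : ℤ) = 1 := by
    have h1 := h.relation
    rw [finsum_mem_eq_sum_of_subset (t := insert oneChar R0) _
      (fun χ hχ => by
        by_cases e1 : χ = oneChar
        · exact Finset.mem_insert.2 (Or.inl e1)
        · exact Finset.mem_insert.2 (Or.inr (Finset.mem_filter.2 ⟨Finset.mem_univ _, hχ.1, e1⟩)))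
      (fun χ hχ => by
        rcases Finset.mem_insert.1 hχ with rfl | hχ
        · exact h.one_mem
        · exact (Finset.mem_filter.1 hχ).2.1),
      Finset.sum_insert (show (oneChar : IrrCharacter G) ∉ R0 from fun hh => (Finset.mem_filter.1 hh).2.2 rfl),
      BrauerReynolds.d_oneChar D one_ne_zero, BrauerFew.deg_oneChar] at h1
    push_cast at h1
    linarith
  have hR0 : ∀ χ ∈ R0, q ∣ charDegree (χ : G → ℂ) ∧ (D.d χ 1 D.one = 1 ∨ D.d χ 1 D.one = -1) ∧
      charDegree (χ : G → ℂ) ∣ q ^ b * g₀ ∧ (p : ℤ) ∣ (charDegree (χ : G → ℂ) : ℤ) + D.d χ 1 D.one := fun χ hχ => by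
    obtain ⟨-, h1, h2⟩ := Finset.mem_filter.1 hχ
    exact dvd_deg_const D (perfect_of_simple hna) hq hcard hg0 hg hM h1.1 (F.const χ h1.2) h2
  have hR0c : R0.card + 1 = e := by
    rw [← hH, ← D.card_U_one, ← D.card_rest hM F, Nat.card_eq_fintype_card, Fintype.card_subtype,
      ← Finset.card_insert_of_notMem (show (oneChar : IrrCharacter G) ∉ R0 from fun hh =>
        (Finset.mem_filter.1 hh).2.2 rfl)]
    congr 1
    ext χ
    simp only [R0, Finset.mem_insert, Finset.mem_filter, Finset.mem_univ, true_and]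
    constructor
    · rintro (rfl | ⟨h1, -⟩)
      · exact h.one_mem
      · exact h1
    · intro h1
      by_cases e1 : χ = oneChar
      · exact Or.inl e1
      · exact Or.inr ⟨h1, e1⟩
  have hg0y : g₀ < 2 * y → g₀ = y := fun h2 => by
    obtain ⟨k, hk⟩ := h.dvd_g
    have h3 : k < 2 := by
      by_contra h4
      have := Nat.mul_le_mul_left y (show 2 ≤ k by omega)
      omega
    rcases (show k = 0 ∨ k = 1 by omega) with rfl | rfl
    · omega
    · omega
  rcases h.y_eq with ⟨hε, hye⟩ | ⟨hε, hye⟩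
  · obtain ⟨hpe, hodd, χ, hχ⟩ := h.plus D hna hM hε
    have hgy : g₀ = y := hg0y (by omega)
    have h1 : p + 1 ∣ q ^ b * g₀ := by
      have h2 : p + 1 ∣ p * (q ^ b * g₀) := by rw [← mul_assoc, ← hcard, ← hχ]; exact CharBasics.degree_dvd χ
      exact Nat.Coprime.dvd_of_dvd_mul_left (Nat.coprime_self_add_left.2 (Nat.coprime_one_left p)) h2
    rw [hgy, hye, ← he] at h1
    obtain ⟨c, hc⟩ := hodd
    have hq2 : q = 2 := by
      have h3 : e + 1 ∣ q ^ b :=
        Nat.Coprime.dvd_of_dvd_mul_right (Nat.coprime_self_add_left.2 (Nat.coprime_one_left e))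
          ((show e + 1 ∣ p + 1 from ⟨2, by omega⟩).trans h1)
      exact ((Nat.prime_dvd_prime_iff_eq Nat.prime_two hq).1
        (Nat.prime_two.dvd_of_dvd_pow ((show 2 ∣ e + 1 by omega).trans h3))).symm
    subst hq2
    have h4 : p + 1 ∣ 2 ^ b := by
      refine Nat.Coprime.dvd_of_dvd_mul_right ?_ h1
      rw [show p + 1 = 2 * (e + 1) by omega]
      exact Nat.Coprime.mul_left (Nat.coprime_two_left.2 ⟨c, hc⟩) (Nat.coprime_self_add_left.2 (Nat.coprime_one_left e))
    obtain ⟨m, hmb, hm⟩ := (Nat.dvd_prime_pow Nat.prime_two).1 h4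
    subst hgy
    have hm2 : 2 ≤ m := by
      by_contra h5
      have : 2 ^ m ≤ 2 ^ 1 := Nat.pow_le_pow_right two_pos (by omega)
      omega
    have hb := lt_two_mul hna h hcard (by omega) (Or.inl ⟨hε, hm, hye, by omega, hm2⟩)
    refine ⟨?_, m, Or.inr (by omega)⟩
    have h6 : N = 2 ^ b := by
      rw [hye, ← he, mul_comm (2 ^ b)] at hNe
      exact Nat.eq_of_mul_eq_mul_left (by omega) hNe
    have h7 : 2 * 2 ^ b ≤ 2 ^ m * 2 ^ m := by
      rw [← pow_succ', ← pow_add]
      exact Nat.pow_le_pow_right two_pos (by omega)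
    rw [h6]
    rw [← hm] at h7
    nlinarith
  · obtain rfl : y = g₀ := (hg0y (by omega)).symm
    have he1 : 2 ≤ e := by omega
    have hep : e ∣ p - 1 := Dvd.intro _ hU
    have hcop : e.Coprime y := by
      have h2 : e.Coprime (y + e) := hye.symm ▸
        (hp.coprime_iff_not_dvd.2 fun hd => absurd (Nat.le_of_dvd (by omega) hd) (by omega)).symm
      exact Nat.coprime_add_self_right.1 h2
    obtain ⟨c, -, hc⟩ := (Nat.dvd_prime_pow hq).1 (hcop.dvd_of_dvd_mul_right (Dvd.intro _ hNe))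
    have hc0 : c ≠ 0 := fun e0 => by rw [e0, pow_zero] at hc; omega
    have hqe : q ∣ e := hc ▸ dvd_pow_self q hc0
    have hq2 : q = 2 := by
      have h1 : (q : ℤ) ∣ ∑ χ ∈ R0, D.d χ 1 D.one * (charDegree (χ : G → ℂ) : ℤ) :=
        Finset.dvd_sum fun χ hχ => Dvd.dvd.mul_left (Int.natCast_dvd_natCast.2 (hR0 χ hχ).1) _
      have h2 : q ∣ y + 1 := by
        rw [show ∑ χ ∈ R0, D.d χ 1 D.one * (charDegree (χ : G → ℂ) : ℤ) = ((y + 1 : ℕ) : ℤ) by
          rw [hε] at hrel; push_cast; linarith] at h1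
        exact Int.natCast_dvd_natCast.1 h1
      have h3 : q ∣ p + 1 := by
        have := dvd_add h2 hqe
        rwa [show y + 1 + e = p + 1 by omega] at this
      have h4 := Nat.dvd_sub h3 (hqe.trans hep)
      rw [show p + 1 - (p - 1) = 2 by omega] at h4
      exact (Nat.prime_dvd_prime_iff_eq hq Nat.prime_two).1 h4
    subst hq2
    have hb1 : 1 ≤ b := by
      by_contra h5
      rw [show b = 0 by omega, pow_zero, one_mul] at hNe
      exact h.not_dvd (hqe.trans (Dvd.intro _ hNe))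
    rcases Nat.lt_or_ge c 2 with hc1 | hc2
    · -- the inertial index two
      rw [show c = 1 by omega, pow_one] at hc
      obtain ⟨φ, hφ⟩ := Finset.card_eq_one.1 (show R0.card = 1 by omega)
      rw [hφ, Finset.sum_singleton, hε] at hrel
      have hf : charDegree (φ : G → ℂ) = p - 1 := by
        have hpos := charDegree_pos φ.2
        rcases (hR0 φ (by simp [hφ])).2.1 with e1 | e1 <;> rw [e1] at hrel <;> omega
      have hf2 : p - 1 ∣ 2 ^ b := by
        refine Nat.Coprime.dvd_of_dvd_mul_right ?_ (hf ▸ (hR0 φ (by simp [hφ])).2.2.1)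
        rw [show p - 1 = y + 1 by omega]
        exact Nat.coprime_self_add_left.2 (Nat.coprime_one_left y)
      obtain ⟨i, -, hi⟩ := (Nat.dvd_prime_pow Nat.prime_two).1 hf2
      obtain ⟨R, u, s, K, C, -, hKodd, -, hdvd, -, hR⟩ :=
        two_block D hna (by omega) h hcard hb1 hg
      have hR' : R = ∅ := by
        refine Finset.eq_empty_of_forall_notMem fun χ hχ => ?_
        obtain ⟨h1, h2, -, -, -, -, hlt, hu0, hdu⟩ := hR χ hχ
        have h3 : χ = φ := Finset.mem_singleton.1 (hφ ▸ Finset.mem_filter.2 ⟨Finset.mem_univ _, h1, h2⟩)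
        subst h3
        rw [hf, hi] at hdu
        have h4 := Nat.le_of_dvd (Int.natAbs_pos.2 hu0)
          (Nat.Coprime.dvd_of_dvd_mul_right ((Nat.coprime_two_left.2 hKodd).pow_left i) hdu)
        rw [← hi, ← hf] at h4
        rw [Int.abs_eq_natAbs] at hlt
        omega
      rw [hR', Finset.sum_empty, add_zero, hε] at hdvd
      have h5 : 2 ^ b ∣ y + 1 := by
        refine Int.natCast_dvd_natCast.1 ?_
        push_cast
        convert hdvd using 1
        ring
      have h6 := Nat.le_of_dvd (by omega) h5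
      refine ⟨?_, i, Or.inl (by omega)⟩
      rw [hc] at hNe
      rw [hNe]
      have h7 : 2 ^ b * y ≤ (y + 1) * y := Nat.mul_le_mul_right _ h6
      nlinarith
    · -- the inertial index at least four
      have h4e : 4 ∣ e := hc ▸ (show 4 = 2 ^ 2 by norm_num) ▸ pow_dvd_pow 2 hc2
      obtain ⟨χ, hχ, hχ4⟩ : ∃ χ ∈ R0, ¬ 4 ∣ charDegree (χ : G → ℂ) := by
        by_contra hne
        push Not at hne
        have h1 : (4 : ℤ) ∣ ∑ χ ∈ R0, D.d χ 1 D.one * (charDegree (χ : G → ℂ) : ℤ) :=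
          Finset.dvd_sum fun χ hχ => Dvd.dvd.mul_left (by exact_mod_cast hne χ hχ) _
        have h2 : 4 ∣ p - 1 := h4e.trans hep
        rw [hε] at hrel
        omega
      obtain ⟨hf2, hd, hfd, hfc⟩ := hR0 χ hχ
      obtain ⟨d, hdd⟩ := hf2
      have hdodd : ¬ 2 ∣ d := fun hh => hχ4 (by rw [hdd]; exact (show 4 = 2 * 2 by norm_num) ▸ Nat.mul_dvd_mul_left 2 hh)
      have hdy : d ∣ y := by
        have h1 : d ∣ 2 ^ b * y := (Dvd.intro_left _ hdd.symm).trans hfd
        exact Nat.Coprime.dvd_of_dvd_mul_left ((Nat.prime_two.coprime_iff_not_dvd.2 hdodd).symm.pow_right b) h1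
      have hdle := Nat.le_of_dvd (by omega) hdy
      have hdpos : 0 < d := by omega
      obtain ⟨k, hk⟩ := hfc
      have hk1 : k = 1 := by
        rw [hdd] at hk
        push_cast at hk
        have hpz : (0 : ℤ) < p := by exact_mod_cast hp.pos
        have h1 : 0 < (p : ℤ) * k ∧ (p : ℤ) * k < p * 2 := by
          rw [← hk]
          rcases hd with e1 | e1 <;> rw [e1] <;> omega
        have h2 := pos_of_mul_pos_right h1.1 hpz.le
        have h3 := lt_of_mul_lt_mul_left h1.2 hpz.le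
        omega
      rw [hk1, hdd, mul_one] at hk
      push_cast at hk
      have hdy' : d = y := by
        obtain ⟨j, hj⟩ := hdy
        by_contra hne
        have hj2 : j ≠ 1 := fun e1 => hne (by rw [hj, e1, mul_one])
        have hj3 : j ≠ 2 := fun e1 => h.not_dvd (by rw [hj, e1]; exact dvd_mul_left 2 d)
        have hj0 : j ≠ 0 := fun e1 => by rw [e1, mul_zero] at hj; omega
        have := Nat.mul_le_mul_left d (show 3 ≤ j by omega)
        rcases hd with e1 | e1 <;> rw [e1] at hk <;> omega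
      subst hdy'
      have hpe : p = 2 * e + 1 := by
        rcases hd with e1 | e1 <;> rw [e1] at hk
        · exfalso
          obtain ⟨t, ht⟩ := hep
          have h8 : p - 1 = 2 * e - 2 := by omega
          have h9 : e ∣ 2 := by
            have h10 : e ∣ 2 * e - (p - 1) := Nat.dvd_sub (dvd_mul_left e 2) ⟨t, ht⟩
            rwa [show 2 * e - (p - 1) = 2 by omega] at h10
          have := Nat.le_of_dvd two_pos h9
          omega
        · omega
      have hpm : p = 2 ^ (c + 1) + 1 := by rw [pow_succ', ← hc]; exact hpe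
      have hb := lt_two_mul hna h hcard hb1 (Or.inr ⟨hε, hpm, by omega, hpe, by omega⟩)
      refine ⟨?_, c + 1, Or.inl hpm⟩
      have h7 : 2 ^ b ≤ e * (2 * e) := by
        have : 2 ^ c * (2 * 2 ^ c) = 2 ^ (2 * c + 1) := by rw [pow_succ', two_mul c, pow_add]; ring
        rw [hc, this]
        exact Nat.pow_le_pow_right two_pos (by omega)
      have h8 : e * N ≤ e * (2 * e * d) := by
        rw [hNe]
        calc 2 ^ b * d ≤ e * (2 * e) * d := Nat.mul_le_mul_right _ h7
          _ = e * (2 * e * d) := by ring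
      have h9 := Nat.le_of_mul_le_mul_left h8 (by omega)
      have h10 : 2 * e * d = 2 * e * (e + 1) := by rw [show d = e + 1 by omega]
      nlinarith

end CfsgLib.PQBrauer
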