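import Cfsg.Agent.BrauerFew.Pre
import Cfsg.Agent.BrauerFew.Fixed
import Cfsg.Agent.SmallOrders.BlockData

/-!
A simple group of order `p q ^ b g₀` with `g₀ < p - 1`: the principal `p`-block.
-/

set_option autoImplicit false
set_option linter.style.haveILetI false
set_option linter.unusedSectionVars false

namespace CfsgLib.PQBrauer

open Cfsg CfsgLib.CharBasics CfsgLib.DefectOne
open scoped ComplexConjugate

universe u

variable {G : Type u} [Group G] [Fintype G] {p : ℕ} [Fact p.Prime]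

theorem perfect_of_simple [IsSimpleGroup G] (hna : ¬ IsMulCommutative G) : commutator G = ⊤ := by
  rcases (inferInstance : (commutator G).Normal).eq_bot_or_eq_top with h | h
  · exact absurd ⟨⟨fun a b => commutatorElement_eq_one_iff_mul_comm.1 (Subgroup.mem_bot.1
      (h ▸ Subgroup.commutator_mem_commutator (Subgroup.mem_top a) (Subgroup.mem_top b)))⟩⟩ hna
  · exact h

/-- A nontrivial irreducible character of a simple group is faithful. -/
theorem eq_one_of_apply_eq [IsSimpleGroup G] {χ : IrrCharacter G} (hχ : χ ≠ oneChar) {g : G}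
    (hg : (χ : G → ℂ) g = (χ : G → ℂ) 1) : g = 1 := by
  classical
  have hc := isCharacter_of_irr χ.2
  rcases (charKer_normal hc).eq_bot_or_eq_top with hker | hker
  · have : g ∈ charKer _ hc := hg
    rwa [hker, Subgroup.mem_bot] at this
  · exfalso
    have hall : ∀ x : G, (χ : G → ℂ) x = (χ : G → ℂ) 1 := fun x => by
      rw [← mem_charKer hc, hker]; trivial
    have h0 := sum_irr_eq_zero χ.2 (fun h => hχ (Subtype.ext h))
    rw [Finset.sum_congr rfl (fun x _ => hall x), Finset.sum_const, nsmul_eq_mul] at h0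
    rcases mul_eq_zero.mp h0 with h | h
    · exact (Fintype.card_ne_zero (α := G)) (Nat.cast_eq_zero (R := ℂ) |>.mp (by simpa using h))
    · exact apply_one_ne_zero χ.2 h

variable (D : Data G p)

/-- Degrees of the members with constant vector. -/
theorem dvd_deg_const (hperf : commutator G = ⊤) {q b g₀ : ℕ} (hq : q.Prime) (hcard : Nat.card G = p * q ^ b * g₀)
    (hg0 : 0 < g₀) (hg : g₀ < p - 1) {M : Ideal AlgInt} (hM : IsPModular p M) {χ : IrrCharacter G}
    (hχ : χ ∈ D.blk D.one) (hc : D.Const χ D.one) (hne : χ ≠ oneChar) :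
    q ∣ charDegree (χ : G → ℂ) ∧ (D.d χ 1 D.one = 1 ∨ D.d χ 1 D.one = -1) ∧
      charDegree (χ : G → ℂ) ∣ q ^ b * g₀ ∧ (p : ℤ) ∣ (charDegree (χ : G → ℂ) : ℤ) + D.d χ 1 D.one := by
  have hd0 := (D.mem_blk_iff_const hc).1 hχ
  have hab := abs_le.1 (D.abs_d_le_one hM χ 1 D.one)
  have hd : D.d χ 1 D.one = 1 ∨ D.d χ 1 D.one = -1 := by omega
  have hdeg : (p : ℤ) ∣ (charDegree (χ : G → ℂ) : ℤ) + D.d χ 1 D.one := by
    have h1 := D.deg_blk hM hχ
    rw [D.S_const hc, D.odeg_one, Nat.cast_one, mul_one] at h1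
    have h2 := dvd_add h1 (dvd_mul_right (p : ℤ) (D.d χ 1 D.one))
    ring_nf at h2 ⊢
    exact h2
  have hp : p.Prime := Fact.out
  have hnp : ¬ p ∣ charDegree (χ : G → ℂ) := fun h => by
    have h1 : (p : ℤ) ∣ D.d χ 1 D.one := (dvd_add_right (Int.natCast_dvd_natCast.2 h)).1 hdeg
    have h2 := hp.two_le
    rcases hd with e | e <;> rw [e] at h1
    · have := Int.le_of_dvd one_pos h1; omega
    · rw [Int.dvd_neg] at h1
      have := Int.le_of_dvd one_pos h1; omega
  have hdvd : charDegree (χ : G → ℂ) ∣ q ^ b * g₀ := by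
    have h1 := CharBasics.degree_dvd χ
    rw [hcard, mul_assoc] at h1
    exact (Nat.Coprime.dvd_of_dvd_mul_left (hp.coprime_iff_not_dvd.2 hnp).symm h1)
  refine ⟨?_, hd, hdvd, hdeg⟩
  by_contra hqd
  have h2 : charDegree (χ : G → ℂ) ∣ g₀ :=
    Nat.Coprime.dvd_of_dvd_mul_left ((hq.coprime_iff_not_dvd.2 hqd).symm.pow_right b) hdvd
  have h3 := Nat.le_of_dvd hg0 h2
  have h4 := charDegree_pos χ.2
  rcases hd with e | e <;> rw [e] at hdeg
  · have := Int.le_of_dvd (by omega) hdeg; omega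
  · by_cases h5 : charDegree (χ : G → ℂ) = 1
    · exact hne (BrauerReynolds.eq_oneChar_of_deg_one hperf χ h5)
    · have := Int.le_of_dvd (by omega) hdeg; omega

/-- What the principal block gives. -/
structure Shape (q b g₀ : ℕ) (F : D.Family D.one) (y : ℕ) : Prop where
  one_mem : oneChar ∈ D.rest F
  two_le : 2 ≤ (D.U D.one).index
  cardV : Nat.card D.V = 1
  deg_theta : ∀ j, charDegree (F.θ j : G → ℂ) = y
  one_lt : 1 < y
  le_g : y ≤ g₀
  dvd_g : y ∣ g₀
  not_dvd : ¬ q ∣ y
  y_eq : F.ε = 1 ∧ y = Nat.card D.H ∨ F.ε = -1 ∧ y + Nat.card D.H = p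
  relation : (F.ε : ℤ) * y + ∑ᶠ χ ∈ D.rest F, D.d χ 1 D.one * (charDegree (χ : G → ℂ) : ℤ) = 0

theorem exists_shape [IsSimpleGroup G] (hna : ¬ IsMulCommutative G) {q b g₀ : ℕ} (hq : q.Prime)
    (hcard : Nat.card G = p * q ^ b * g₀) (hg0 : 0 < g₀) (hg : g₀ < p - 1) {M : Ideal AlgInt}
    (hM : IsPModular p M) : ∃ (F : D.Family D.one) (y : ℕ), Shape D q b g₀ F y := by
  classical
  haveI : Fintype (IrrCharacter G) := Fintype.ofFinite _
  have hperf := perfect_of_simple hna
  have hp : p.Prime := Fact.out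
  have hU := D.card_U_mul_index D.one
  rw [D.card_U_one] at hU
  have ht0 : (D.U D.one).index ≠ 0 := Subgroup.index_ne_zero_of_finite
  have ht : 2 ≤ (D.U D.one).index := by
    by_contra hlt
    have ht1 : (D.U D.one).index = 1 := by omega
    haveI : Subsingleton (D.Idx D.one) := by
      rw [← Fintype.card_le_one_iff_subsingleton, D.card_Idx, ht1]
    have hconst : ∀ χ, D.Const χ D.one := fun χ => D.subsingleton_const χ D.one fun a b => Subsingleton.elim a b
    have hs := BrauerFew.sum_d_deg D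
    rw [← Finset.sum_erase_add _ _ (Finset.mem_univ (oneChar : IrrCharacter G)),
      BrauerReynolds.d_oneChar D one_ne_zero, BrauerFew.deg_oneChar] at hs
    have hdvd : (q : ℤ) ∣ ∑ χ ∈ Finset.univ.erase (oneChar : IrrCharacter G),
        D.d χ 1 D.one * (charDegree (χ : G → ℂ) : ℤ) := by
      refine Finset.dvd_sum fun χ hχ => ?_
      by_cases hb : χ ∈ D.blk D.one
      · exact Dvd.dvd.mul_left (Int.natCast_dvd_natCast.2
          (dvd_deg_const D hperf hq hcard hg0 hg hM hb (hconst χ) (Finset.mem_erase.1 hχ).1).1) _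
      · rw [BrauerFew.d_one_eq_zero hb, zero_mul]; exact dvd_zero _
    have h5 : (q : ℤ) ∣ 1 := by
      have h6 : ∑ χ ∈ Finset.univ.erase (oneChar : IrrCharacter G),
          D.d χ 1 D.one * (charDegree (χ : G → ℂ) : ℤ) = 1 := by push_cast at hs; linarith
      rwa [h6] at hdvd
    exact hq.ne_one (Nat.dvd_one.1 (Int.natCast_dvd_natCast.1 h5))
  obtain ⟨F⟩ := D.exists_family hM D.one
  have hone : oneChar ∈ D.rest F := by
    refine ⟨D.oneChar_mem_blk, ?_⟩
    rintro ⟨j, hj⟩
    obtain ⟨a, ha⟩ : ∃ a : (ZMod p)ˣ, j ≠ D.cls D.one a := by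
      haveI : Nontrivial (D.Idx D.one) := Fintype.one_lt_card_iff_nontrivial.1 (by rw [D.card_Idx]; omega)
      obtain ⟨j', hj'⟩ := exists_ne j
      obtain ⟨a, ha⟩ := D.cls_surj D.one j'
      exact ⟨a, ha ▸ hj'.symm⟩
    have h1 := F.d_eq' j a
    rw [if_neg ha, hj, BrauerReynolds.d_oneChar D a.ne_zero] at h1
    omega
  set y := charDegree (F.θ 1 : G → ℂ) with hy
  have hθ : ∀ j, charDegree (F.θ j : G → ℂ) = y := fun j => by
    have h1 := D.theta_regular F j (g := 1) (by rw [orderOf_one]; exact D.hp.not_dvd_one)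
    rw [apply_one (isCharacter_of_irr (F.θ j).2), apply_one (isCharacter_of_irr (F.θ 1).2)] at h1
    exact_mod_cast h1
  have hrel : (F.ε : ℤ) * y + ∑ᶠ χ ∈ D.rest F, D.d χ 1 D.one * (charDegree (χ : G → ℂ) : ℤ) = 0 := by
    have h1 := D.regular_relation F 1 (g := (1 : G)) (by rw [orderOf_one]; exact D.hp.not_dvd_one)
    have hs : (D.rest F).Finite := Set.toFinite _
    rw [finsum_mem_eq_finite_toFinset_sum _ hs] at h1 ⊢
    apply Int.cast_injective (α := ℂ)
    push_cast
    simp only [apply_one (isCharacter_of_irr (Subtype.property _))] at h1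
    exact h1
  have hrest : ∀ χ ∈ D.rest F, χ ≠ oneChar → (q : ℤ) ∣ D.d χ 1 D.one * (charDegree (χ : G → ℂ) : ℤ) :=
    fun χ hχ hne => Dvd.dvd.mul_left (Int.natCast_dvd_natCast.2
      (dvd_deg_const D hperf hq hcard hg0 hg hM hχ.1 (F.const χ hχ.2) hne).1) _
  have hqy : ¬ q ∣ y := by
    intro h
    have hs : (D.rest F).Finite := Set.toFinite _
    have h1 := hrel
    rw [finsum_mem_eq_finite_toFinset_sum _ hs,
      ← Finset.sum_erase_add _ _ ((Set.Finite.mem_toFinset hs).2 hone),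
      BrauerReynolds.d_oneChar D one_ne_zero, BrauerFew.deg_oneChar] at h1
    have h2 : (q : ℤ) ∣ ∑ χ ∈ hs.toFinset.erase oneChar, D.d χ 1 D.one * (charDegree (χ : G → ℂ) : ℤ) :=
      Finset.dvd_sum fun χ hχ => hrest χ (hs.mem_toFinset.1 (Finset.mem_erase.1 hχ).2) (Finset.mem_erase.1 hχ).1
    have h3 : (q : ℤ) ∣ F.ε * (y : ℤ) := Dvd.dvd.mul_left (Int.natCast_dvd_natCast.2 h) _
    have h4 := dvd_add h3 h2
    rw [show F.ε * (y : ℤ) + ∑ χ ∈ hs.toFinset.erase oneChar, D.d χ 1 D.one * (charDegree (χ : G → ℂ) : ℤ) = 1 by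
      push_cast at h1; linarith] at h4
    exact hq.ne_one (Nat.dvd_one.1 (Int.natCast_dvd_natCast.1 h4))
  have he2 : 2 * D.V.index ≤ p - 1 := by
    rw [← hU, mul_comm 2]; exact Nat.mul_le_mul_left _ ht
  have he0 : 0 < D.V.index := Nat.pos_of_ne_zero Subgroup.index_ne_zero_of_finite
  have hcong : (y : ℤ) ≡ F.ε * (D.V.index : ℤ) [ZMOD p] := by
    have h1 := D.deg_theta hM F 1
    rw [BrauerFew.deg_one_char, mul_one] at h1
    exact h1
  have hypos : 0 < y := charDegree_pos (F.θ 1).2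
  have hne1 : F.θ 1 ≠ oneChar := fun e => hone.2 ⟨1, e⟩
  have hy1 : 1 < y := by
    rcases Nat.lt_or_ge 1 y with h | h
    · exact h
    · exact absurd (BrauerReynolds.eq_oneChar_of_deg_one hperf _ (by omega)) hne1
  have hdg : y ∣ g₀ := by
    have hnp : ¬ p ∣ y := fun h => by
      have h1 := (Int.modEq_iff_dvd.1 hcong)
      rw [dvd_sub_left (Int.natCast_dvd_natCast.2 h)] at h1
      have h2 : (p : ℤ) ∣ (D.V.index : ℤ) := by
        rcases F.sign with e | e <;> rw [e] at h1 <;> simpa using h1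
      have := Nat.le_of_dvd he0 (Int.natCast_dvd_natCast.1 h2)
      omega
    have h1 : y ∣ p * q ^ b * g₀ := hcard ▸ CharBasics.degree_dvd (F.θ 1)
    rw [mul_assoc] at h1
    have h2 : y ∣ q ^ b * g₀ := Nat.Coprime.dvd_of_dvd_mul_left (hp.coprime_iff_not_dvd.2 hnp).symm h1
    exact Nat.Coprime.dvd_of_dvd_mul_left ((hq.coprime_iff_not_dvd.2 hqy).symm.pow_right b) h2
  have hyg : y ≤ g₀ := Nat.le_of_dvd hg0 hdg
  have hyeq : F.ε = 1 ∧ y = D.V.index ∨ F.ε = -1 ∧ y + D.V.index = p := by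
    have h1 := Int.modEq_iff_dvd.1 hcong
    rcases F.sign with e | e <;> rw [e] at h1
    · left
      refine ⟨e, ?_⟩
      rw [one_mul] at h1
      have := Int.eq_zero_of_abs_lt_dvd h1 (by rw [abs_lt]; omega)
      omega
    · right
      refine ⟨e, ?_⟩
      obtain ⟨k, hk⟩ := h1
      have hk1 : k = -1 := by
        have h3 : (p : ℤ) * k < 0 := by rw [← hk]; omega
        have h4 : -(2 * (p : ℤ)) < (p : ℤ) * k := by rw [← hk]; omega
        have h5 : k < 0 := by nlinarith
        have h6 : -2 < k := by nlinarith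
        omega
      rw [hk1] at hk
      omega
  -- the centraliser of `x` is generated by `x`
  have hV : Nat.card D.V = 1 := by
    choose m hm using fun ψ : IrrCharacter D.V =>
      D.exists_nat_mm (isCharacter_of_irr (F.θ 1).2) 0 (isCharacter_of_irr ψ.2)
    have hS := D.S_theta F 1
    rw [D.card_U_one] at hS
    have hv : ∀ w : D.V, (F.θ 1 : G → ℂ) ((w : D.H) : G) =
        ∑ ψ : IrrCharacter D.V, ((p : ℂ) * m ψ) * (ψ : D.V → ℂ) w + ((F.ε * (D.V.index : ℤ) : ℤ) : ℂ) := by
      intro w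
      rw [D.apply_V (Data.isClassFunction_irr (F.θ 1)) w]
      simp only [hm, ← D.d_eq, add_mul, Finset.sum_add_distrib]
      congr 1
      rw [Finset.sum_eq_single D.one (fun ψ _ hψ => by
        have : ψ ∉ D.orb D.one := by rw [D.orb_one, Finset.mem_singleton]; exact hψ
        simp [F.d_other 1 ψ this]) (fun h => absurd (Finset.mem_univ _) h), D.one_apply, mul_one, ← hS, Data.S]
      push_cast; rfl
    have h1 := hv 1
    rw [OneMemClass.coe_one, OneMemClass.coe_one, apply_one (isCharacter_of_irr (F.θ 1).2), ← hy] at h1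
    simp only [fun ψ : IrrCharacter D.V => apply_one (isCharacter_of_irr ψ.2)] at h1
    have hM1 : (y : ℤ) = ((∑ ψ : IrrCharacter D.V, p * (m ψ * charDegree (ψ : D.V → ℂ)) : ℕ) : ℤ) +
        F.ε * (D.V.index : ℤ) := by
      apply Int.cast_injective (α := ℂ)
      push_cast at h1 ⊢
      simp only [mul_assoc] at h1
      exact h1
    rw [← Finset.mul_sum, Nat.cast_mul] at hM1
    have hker : ∀ v : D.V, (F.θ 1 : G → ℂ) ((v : D.H) : G) = (y : ℂ) := by
      intro v
      rcases hyeq with ⟨e, hye⟩ | ⟨e, hye⟩ <;> rw [e] at hM1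
      · have h2 : ∑ ψ : IrrCharacter D.V, m ψ * charDegree (ψ : D.V → ℂ) = 0 := by
          rw [hye, one_mul] at hM1
          have h3 : (p : ℤ) * ((∑ ψ : IrrCharacter D.V, m ψ * charDegree (ψ : D.V → ℂ) : ℕ) : ℤ) = 0 := by omega
          rcases mul_eq_zero.1 h3 with h4 | h4
          · omega
          · exact_mod_cast h4
        have h3 : ∀ ψ, m ψ = 0 := fun ψ => by
          have h4 := (Finset.sum_eq_zero_iff.1 h2) ψ (Finset.mem_univ _)
          rcases Nat.mul_eq_zero.1 h4 with h5 | h5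
          · exact h5
          · exact absurd h5 (charDegree_pos ψ.2).ne'
        rw [hv v, e]
        simp [h3, hye]
      · have h2 : ∑ ψ : IrrCharacter D.V, m ψ * charDegree (ψ : D.V → ℂ) = 1 := by
          have h3 : (p : ℤ) * ((∑ ψ : IrrCharacter D.V, m ψ * charDegree (ψ : D.V → ℂ) : ℕ) : ℤ) = (p : ℤ) * 1 := by
            rw [mul_one]; omega
          exact_mod_cast mul_left_cancel₀ (by exact_mod_cast hp.ne_zero) h3
        obtain ⟨ψ₀, -, hψ₀⟩ := Finset.exists_ne_zero_of_sum_ne_zero (h2 ▸ one_ne_zero)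
        have h3 := Finset.add_sum_erase Finset.univ (fun ψ : IrrCharacter D.V => m ψ * charDegree (ψ : D.V → ℂ))
          (Finset.mem_univ ψ₀)
        rw [h2] at h3
        have h4 : m ψ₀ * charDegree (ψ₀ : D.V → ℂ) = 1 := by omega
        have hother : ∀ ψ, ψ ≠ ψ₀ → m ψ = 0 := fun ψ hne => by
          have h5 : ∑ ψ ∈ Finset.univ.erase ψ₀, m ψ * charDegree (ψ : D.V → ℂ) = 0 := by omega
          have h6 := (Finset.sum_eq_zero_iff.1 h5) ψ (Finset.mem_erase.2 ⟨hne, Finset.mem_univ _⟩)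
          rcases Nat.mul_eq_zero.1 h6 with h7 | h7
          · exact h7
          · exact absurd h7 (charDegree_pos ψ.2).ne'
        obtain ⟨hm1, hd1⟩ : m ψ₀ = 1 ∧ charDegree (ψ₀ : D.V → ℂ) = 1 :=
          ⟨Nat.eq_one_of_mul_eq_one_right h4, Nat.eq_one_of_mul_eq_one_left h4⟩
        have hval : (F.θ 1 : G → ℂ) ((v : D.H) : G) = (p : ℂ) * (ψ₀ : D.V → ℂ) v - D.V.index := by
          rw [hv v, e, Finset.sum_eq_single ψ₀ (fun ψ _ hne => by simp [hother ψ hne])
            (fun h => absurd (Finset.mem_univ _) h), hm1]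
          push_cast; ring
        obtain ⟨lam, hl, hlv⟩ := exists_eigen (isCharacter_of_irr ψ₀.2) v
        have hψv : (ψ₀ : D.V → ℂ) v = ∑ i, lam i := by simpa using hlv 1
        have hnorm : ‖(ψ₀ : D.V → ℂ) v‖ = 1 := by
          haveI : Subsingleton (Fin (charDegree (ψ₀ : D.V → ℂ))) := by rw [hd1]; infer_instance
          have i0 : Fin (charDegree (ψ₀ : D.V → ℂ)) := ⟨0, by omega⟩
          rw [hψv, Fintype.sum_subsingleton _ i0]
          exact Complex.norm_eq_one_of_pow_eq_one (hl i0) (orderOf_pos v).ne'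
        set z := (ψ₀ : D.V → ℂ) v with hz
        have hb1 := CharBasics.norm_le (isCharacter_of_irr (F.θ 1).2) ((v : D.H) : G)
        rw [← hy, hval] at hb1
        have hpe : (y : ℝ) + (D.V.index : ℝ) = (p : ℝ) := by exact_mod_cast hye
        have hb2 := pow_le_pow_left₀ (norm_nonneg _) hb1 2
        rw [Complex.sq_norm, Complex.normSq_apply] at hb2
        have hz2 : z.re * z.re + z.im * z.im = 1 := by
          rw [← Complex.normSq_apply, Complex.normSq_eq_norm_sq, hnorm, one_pow]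
        simp only [Complex.sub_re, Complex.mul_re, Complex.natCast_re, Complex.natCast_im, Complex.sub_im,
          Complex.mul_im] at hb2
        have hep : (0 : ℝ) < (p : ℝ) * (D.V.index : ℝ) := by
          have := hp.pos
          positivity
        have hre : z.re = 1 := by
          have h8 : z.re ≤ 1 := by nlinarith [mul_self_nonneg z.im]
          have h9 : (p : ℝ) * (D.V.index : ℝ) * (1 - z.re) ≤ 0 := by
            have hy' : (y : ℝ) = (p : ℝ) - (D.V.index : ℝ) := by linarith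
            rw [hy'] at hb2
            have h10 : (p : ℝ) * p * (z.re * z.re + z.im * z.im) = (p : ℝ) * p := by rw [hz2, mul_one]
            nlinarith [h10, hb2]
          nlinarith [h8, h9, hep]
        have him : z.im = 0 := by rw [hre] at hz2; nlinarith
        have hz1 : z = 1 := Complex.ext (by simp [hre]) (by simp [him])
        rw [hval, hz1, mul_one]
        have hye' : (y : ℂ) + (D.V.index : ℂ) = (p : ℂ) := by exact_mod_cast hye
        linear_combination -hye'
    refine Subgroup.card_eq_one.2 ((Subgroup.eq_bot_iff_forall _).2 fun v hv' => ?_)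
    have h6 := eq_one_of_apply_eq hne1 (g := ((v : D.H) : G))
      (by rw [hker ⟨v, hv'⟩, apply_one (isCharacter_of_irr (F.θ 1).2), ← hy])
    exact Subtype.ext h6
  refine ⟨F, y, hone, ht, hV, hθ, hy1, hyg, hdg, hqy, ?_, hrel⟩
  have hH : D.V.index = Nat.card D.H := by rw [← Subgroup.index_mul_card D.V, hV, mul_one]
  rwa [← hH]

/-- The degree `y = |H|` of the exceptional characters forces `|H| = (p - 1) / 2` and `p + 1` divides `|H| ^ 2 - 1`
with an even cofactor. -/
theorem Shape.plus [IsSimpleGroup G] (hna : ¬ IsMulCommutative G) {q b g₀ y : ℕ} {F : D.Family D.one}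
    (h : Shape D q b g₀ F y) {M : Ideal AlgInt} (hM : IsPModular p M) (hε : F.ε = 1) :
    p = 2 * Nat.card D.H + 1 ∧ Odd (Nat.card D.H) ∧ ∃ χ : IrrCharacter G, charDegree (χ : G → ℂ) = p + 1 := by
  classical
  haveI : Fintype (IrrCharacter G) := Fintype.ofFinite _
  have hp : p.Prime := Fact.out
  have hperf := perfect_of_simple hna
  set e := Nat.card D.H with he
  have hy : y = e := by
    rcases h.y_eq with ⟨-, h1⟩ | ⟨h1, -⟩
    · exact h1
    · omega
  have hH : D.V.index = e := by rw [he, ← Subgroup.index_mul_card D.V, h.cardV, mul_one]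
  have he1 : 1 < e := hy ▸ h.one_lt
  haveI : Subsingleton (IrrCharacter D.V) :=
    ⟨fun a c => (BrauerReynolds.irr_V_eq_one D h.cardV a).trans (BrauerReynolds.irr_V_eq_one D h.cardV c).symm⟩
  let θ : G → ℂ := (F.θ 1 : G → ℂ)
  have hθc : IsCharacter G θ := isCharacter_of_irr (F.θ 1).2
  let w : ZMod p → ℤ := fun j => D.d (F.θ 1) j D.one
  have hS : ∑ j, w j = (e : ℤ) := by
    have h1 := D.S_theta F 1
    rw [D.card_U_one, hε, one_mul, hH] at h1
    exact h1
  have hw2 : ∀ j, w j * w j = w j := by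
    intro j
    by_cases hj : j = 0
    · subst hj; simp [w, D.d_zero]
    · show D.d (F.θ 1) j D.one * D.d (F.θ 1) j D.one = D.d (F.θ 1) j D.one
      rw [← Units.val_mk0 hj, F.d_eq', hε]
      split_ifs <;> norm_num
  have hval : ∀ i : ZMod p, θ (D.x ^ i.val) = ∑ j, (w j : ℂ) * Data.ee (i * j) := by
    intro i
    by_cases hi : i = 0
    · subst hi
      simp only [ZMod.val_zero, pow_zero, zero_mul, Data.ee_zero, mul_one]
      rw [apply_one hθc, h.deg_theta 1, hy, ← Int.cast_natCast, ← hS]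
      push_cast; rfl
    · have h1 := D.apply_pt' (F.θ 1) hi 1
      rw [Fintype.sum_subsingleton _ D.one, D.one_apply, mul_one] at h1
      rw [← h1]
      simp [Data.pt, θ]
  have hpe : ∑ i : ZMod p, θ (D.x ^ i.val) * conj (θ (D.x ^ i.val)) = (p : ℂ) * e := by
    simp only [hval, map_sum, map_mul, map_intCast, Data.conj_ee, Finset.mul_sum, Finset.sum_mul]
    have h2 : ∀ j k : ZMod p, ∑ i : ZMod p, (w j : ℂ) * Data.ee (i * j) * ((w k : ℂ) * Data.ee (-(i * k))) =
        if j = k then (p : ℂ) * (w j : ℂ) else 0 := by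
      intro j k
      have h3 : ∀ i : ZMod p, (w j : ℂ) * Data.ee (i * j) * ((w k : ℂ) * Data.ee (-(i * k))) =
          (w j : ℂ) * (w k : ℂ) * Data.ee (i * (j - k)) := fun i => by
        rw [mul_sub, sub_eq_add_neg, Data.ee_add]; ring
      rw [Finset.sum_congr rfl fun i _ => h3 i, ← Finset.mul_sum, Data.sum_ee_mul]
      by_cases hjk : j = k
      · subst hjk
        rw [if_pos (sub_self j), if_pos rfl, ← Int.cast_mul, hw2]; ring
      · rw [if_neg (sub_ne_zero.2 hjk), if_neg hjk, mul_zero]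
    rw [Finset.sum_comm, Finset.sum_congr rfl fun j _ => Finset.sum_comm]
    rw [Finset.sum_comm]
    simp only [h2, Finset.sum_ite_eq', Finset.sum_ite_eq, Finset.mem_univ, if_true, ← Finset.mul_sum]
    rw [← Int.cast_natCast e, ← hS]
    push_cast; rfl
  -- the product with the conjugate
  let ψ : G → ℂ := fun g => θ g * conj (θ g)
  have hψ : IsCharacter G ψ := CharBasics.isCharacter_mul hθc (isCharacter_star hθc)
  choose m hm using fun χ : IrrCharacter G => classInner_character_nat hψ χ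
  have hexp : ∀ g, ψ g = ∑ χ : IrrCharacter G, (m χ : ℂ) * (χ : G → ℂ) g := fun g => by
    have h1 := congrFun (classFun_expand (isClassFunction hψ)) g
    rw [Finset.sum_apply] at h1
    rw [h1]
    exact Finset.sum_congr rfl fun χ _ => by rw [Pi.smul_apply, smul_eq_mul, hm]
  have hm1 : m oneChar = 1 := by
    have h1 := hm (oneChar : IrrCharacter G)
    have h2 := classInner_self (F.θ 1).2
    rw [classInner_eq] at h1 h2
    simp only [oneChar_apply, map_one, mul_one] at h1
    have h3 : ((m oneChar : ℕ) : ℂ) = 1 := h1.symm.trans h2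
    exact_mod_cast h3
  have hA : ∑ χ : IrrCharacter G, (m χ : ℤ) * ((charDegree (χ : G → ℂ) : ℤ) - D.S χ D.one) = (p : ℤ) * e := by
    apply Int.cast_injective (α := ℂ)
    push_cast
    rw [← hpe]
    show _ = ∑ i : ZMod p, ψ (D.x ^ i.val)
    simp only [hexp]
    rw [Finset.sum_comm]
    exact Finset.sum_congr rfl fun χ _ => by rw [← Finset.mul_sum, BrauerReynolds.sum_pow_eq D h.cardV]
  have hD : ∑ χ : IrrCharacter G, (m χ : ℤ) * (charDegree (χ : G → ℂ) : ℤ) = (e : ℤ) * e := by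
    apply Int.cast_injective (α := ℂ)
    push_cast
    have h1 := hexp 1
    simp only [ψ, θ, apply_one (isCharacter_of_irr (Subtype.property _)), h.deg_theta, hy,
      Complex.conj_natCast] at h1
    exact h1.symm
  have hkey : ∀ χ : IrrCharacter G, χ ≠ oneChar →
      ((p : ℤ) + 1) * ((charDegree (χ : G → ℂ) : ℤ) - D.S χ D.one) ≤ 2 * p * (charDegree (χ : G → ℂ) : ℤ) ∧
      (((p : ℤ) + 1) * ((charDegree (χ : G → ℂ) : ℤ) - D.S χ D.one) = 2 * p * (charDegree (χ : G → ℂ) : ℤ) →
        charDegree (χ : G → ℂ) = p + 1) := by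
    intro χ hne
    have hf : (1 : ℤ) ≤ (charDegree (χ : G → ℂ) : ℤ) := by exact_mod_cast charDegree_pos χ.2
    have hp2 : (2 : ℤ) ≤ p := by exact_mod_cast hp.two_le
    by_cases hb : χ ∈ D.blk D.one
    · by_cases hr : χ ∈ Set.range F.θ
      · obtain ⟨j, rfl⟩ := hr
        rw [D.S_theta, D.card_U_one, hε, one_mul, hH, h.deg_theta, hy, sub_self, mul_zero]
        exact ⟨by positivity, fun hh => absurd hh.symm (by positivity)⟩
      · rw [D.S_rest F ⟨hb, hr⟩]
        have hdeg := D.deg_rest hM F ⟨hb, hr⟩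
        rw [D.odeg_one, Nat.cast_one, mul_one] at hdeg
        rcases D.rest_d hM F ⟨hb, hr⟩ with e1 | e1 <;> rw [e1] at hdeg ⊢
        · exact ⟨by nlinarith, fun hh => by nlinarith⟩
        · have h4 : ((p : ℤ) + 1) ≤ (charDegree (χ : G → ℂ) : ℤ) := by
            obtain ⟨k, hk⟩ := Int.modEq_iff_dvd.1 hdeg
            have h5 : 2 ≤ charDegree (χ : G → ℂ) := by
              by_contra h6
              exact hne (BrauerReynolds.eq_oneChar_of_deg_one hperf χ (by have := charDegree_pos χ.2; omega))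
            have h7 : (2 : ℤ) ≤ (charDegree (χ : G → ℂ) : ℤ) := by exact_mod_cast h5
            have h8 : k < 0 := by nlinarith
            nlinarith
          refine ⟨by nlinarith, fun hh => ?_⟩
          have h9 : ((charDegree (χ : G → ℂ) : ℤ) - (p + 1)) * ((p : ℤ) - 1) = 0 := by linarith
          rcases mul_eq_zero.1 h9 with h10 | h10 <;> omega
    · rw [BrauerReynolds.S_outside D hb, sub_zero]
      exact ⟨by nlinarith, fun hh => by nlinarith⟩
  have hS1 : D.S (oneChar : IrrCharacter G) D.one = -((p : ℤ) - 1) := by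
    rw [D.S_rest F h.one_mem, BrauerReynolds.d_oneChar D one_ne_zero]; ring
  rw [← Finset.sum_erase_add _ _ (Finset.mem_univ (oneChar : IrrCharacter G)), hm1, hS1,
    BrauerFew.deg_oneChar] at hA
  rw [← Finset.sum_erase_add _ _ (Finset.mem_univ (oneChar : IrrCharacter G)), hm1,
    BrauerFew.deg_oneChar] at hD
  push_cast at hA hD
  have hsum : ((p : ℤ) + 1) * ((p : ℤ) * e - p) ≤ 2 * p * ((e : ℤ) * e - 1) := by
    rw [show (p : ℤ) * e - p = ∑ χ ∈ Finset.univ.erase (oneChar : IrrCharacter G),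
        (m χ : ℤ) * ((charDegree (χ : G → ℂ) : ℤ) - D.S χ D.one) by linarith,
      show (e : ℤ) * e - 1 = ∑ χ ∈ Finset.univ.erase (oneChar : IrrCharacter G),
        (m χ : ℤ) * (charDegree (χ : G → ℂ) : ℤ) by linarith, Finset.mul_sum, Finset.mul_sum]
    refine Finset.sum_le_sum fun χ hχ => ?_
    rw [mul_left_comm, mul_left_comm (2 * (p : ℤ))]
    exact mul_le_mul_of_nonneg_left (hkey χ (Finset.mem_erase.1 hχ).1).1 (Int.natCast_nonneg _)
  have hU := D.card_U_mul_index D.one
  rw [D.card_U_one, hH] at hU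
  have hle : e * 2 ≤ p - 1 := hU ▸ Nat.mul_le_mul_left _ h.two_le
  have hpe2 : p = 2 * e + 1 := by
    have he1' : (1 : ℤ) < e := by exact_mod_cast he1
    have hp0 : (0 : ℤ) < p := by exact_mod_cast hp.pos
    have hq1 : (0 : ℤ) < (p : ℤ) * ((e : ℤ) - 1) := mul_pos hp0 (by omega)
    have h1 : ((p : ℤ) + 1) ≤ 2 * ((e : ℤ) + 1) :=
      le_of_mul_le_mul_right (by linarith [hsum] : ((p : ℤ) + 1) * ((p : ℤ) * ((e : ℤ) - 1)) ≤
        2 * ((e : ℤ) + 1) * ((p : ℤ) * ((e : ℤ) - 1))) hq1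
    omega
  -- equality
  have heq : ∀ χ ∈ Finset.univ.erase (oneChar : IrrCharacter G), m χ ≠ 0 → charDegree (χ : G → ℂ) = p + 1 := by
    intro χ hχ hmχ
    refine (hkey χ (Finset.mem_erase.1 hχ).1).2 ?_
    have h1 : ∑ χ ∈ Finset.univ.erase (oneChar : IrrCharacter G), (m χ : ℤ) * (2 * p * (charDegree (χ : G → ℂ) : ℤ) -
        ((p : ℤ) + 1) * ((charDegree (χ : G → ℂ) : ℤ) - D.S χ D.one)) = 0 := by
      simp only [mul_sub (m _ : ℤ), Finset.sum_sub_distrib, mul_left_comm (m _ : ℤ) (2 * (p : ℤ)),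
        mul_left_comm (m _ : ℤ) ((p : ℤ) + 1), ← Finset.mul_sum]
      have hp' : (p : ℤ) = 2 * (e : ℤ) + 1 := by exact_mod_cast hpe2
      simp only [mul_sub (m _ : ℤ), Finset.sum_sub_distrib] at hA
      linear_combination (-((p : ℤ) + 1)) * hA + 2 * (p : ℤ) * hD + ((p : ℤ) * (1 - (e : ℤ))) * hp'
    have h2 := (Finset.sum_eq_zero_iff_of_nonneg fun χ hχ => mul_nonneg (Int.natCast_nonneg _)
      (sub_nonneg.2 (hkey χ (Finset.mem_erase.1 hχ).1).1)).1 h1 χ hχ
    rcases mul_eq_zero.1 h2 with h3 | h3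
    · exact absurd (by exact_mod_cast h3) hmχ
    · linarith
  obtain ⟨k, hk⟩ : ∃ k : ℕ, ∑ χ ∈ Finset.univ.erase (oneChar : IrrCharacter G),
      (m χ : ℤ) * (charDegree (χ : G → ℂ) : ℤ) = ((p : ℤ) + 1) * k := by
    refine ⟨∑ χ ∈ Finset.univ.erase (oneChar : IrrCharacter G), m χ, ?_⟩
    push_cast
    rw [Finset.mul_sum]
    refine Finset.sum_congr rfl fun χ hχ => ?_
    by_cases hmχ : m χ = 0
    · simp [hmχ]
    · rw [heq χ hχ hmχ]; push_cast; ring
  rw [hk] at hD
  have hp' : (p : ℤ) + 1 = 2 * ((e : ℤ) + 1) := by omega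
  have hk2 : (e : ℤ) = 2 * k + 1 := by
    have h3 : ((e : ℤ) + 1) * ((e : ℤ) - 1) = ((e : ℤ) + 1) * (2 * k) := by rw [hp'] at hD; linear_combination -hD
    have := mul_left_cancel₀ (by omega) h3
    omega
  refine ⟨hpe2, ⟨k, by omega⟩, ?_⟩
  obtain ⟨χ, hχ, hne⟩ := Finset.exists_ne_zero_of_sum_ne_zero (s := Finset.univ.erase (oneChar : IrrCharacter G))
    (f := fun χ => (m χ : ℤ) * (charDegree (χ : G → ℂ) : ℤ)) (by
      rw [hk]
      refine mul_ne_zero (by omega) ?_
      omega)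
  exact ⟨χ, heq χ hχ fun e0 => hne (by simp [e0])⟩

end CfsgLib.PQBrauer
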