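import Cfsg.Agent.PQBrauer.Setup
import Cfsg.Agent.SmallOrders.Local

/-!
A congruence modulo the `2`-part of the group order from the principal `2`-block.
-/

set_option autoImplicit false
set_option linter.style.haveILetI false
set_option linter.unusedSectionVars false

namespace CfsgLib.PQBrauer

open Cfsg CfsgLib.CharBasics CfsgLib.DefectOne
open scoped ComplexConjugate

universe u

variable {G : Type u} [Group G] [Fintype G] {p : ℕ} [Fact p.Prime] (D : Data G p)

theorem centralizer_x (hV : Nat.card D.V = 1) :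
    Subgroup.centralizer ({D.x} : Set G) = Subgroup.zpowers D.x := by
  refine (Subgroup.eq_of_le_of_card_ge (Subgroup.zpowers_le.2 ?_) ?_).symm
  · exact Subgroup.mem_centralizer_singleton_iff.2 rfl
  · rw [BrauerFew.centralizer_x_eq, D.card_centralizer, hV, mul_one, Nat.card_zpowers, D.hx]

theorem two_block [IsSimpleGroup G] (hna : ¬ IsMulCommutative G) (hp2 : p ≠ 2) {b y : ℕ} {F : D.Family D.one}
    (h : Shape D 2 b y F y) (hcard : Nat.card G = p * 2 ^ b * y) (hb : 1 ≤ b) (hy : y < p - 1) :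
    ∃ (R : Finset (IrrCharacter G)) (u : IrrCharacter G → ℤ) (s : IrrCharacter G → ℤ) (K C : ℕ),
      R.card + 1 ≤ Nat.card D.H ∧ Odd K ∧ C * K = 2 ^ b * y ∧
      ((2 : ℤ) ^ b ∣ 1 - F.ε * y + ∑ χ ∈ R, s χ * (charDegree (χ : G → ℂ) : ℤ)) ∧
      ∑ χ ∈ R, u χ ^ 2 ≤ (C : ℤ) ∧
      ∀ χ ∈ R, χ ∈ D.rest F ∧ χ ≠ oneChar ∧ (s χ = 1 ∨ s χ = -1) ∧ (p : ℤ) ∣ (charDegree (χ : G → ℂ) : ℤ) - s χ ∧
        2 ∣ charDegree (χ : G → ℂ) ∧ charDegree (χ : G → ℂ) ∣ 2 ^ b * y ∧
        |u χ| < (charDegree (χ : G → ℂ) : ℤ) ∧ u χ ≠ 0 ∧ charDegree (χ : G → ℂ) ∣ (u χ).natAbs * K := by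
  classical
  haveI : Fintype (IrrCharacter G) := Fintype.ofFinite _
  haveI : Fact (Nat.Prime 2) := ⟨Nat.prime_two⟩
  haveI : NeZero p := ⟨D.hp.ne_zero⟩
  have hp : p.Prime := Fact.out
  have hperf := perfect_of_simple hna
  have hy0 : 0 < y := by have := h.one_lt; omega
  have hodd : Odd y := Nat.odd_iff.2 (by
    have h1 := h.not_dvd
    rw [Nat.dvd_iff_mod_eq_zero] at h1
    omega)
  obtain ⟨M, hM⟩ := Blocks.exists_modular hp
  obtain ⟨M2, hM2⟩ := Blocks.exists_modular Nat.prime_two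
  have hzx := centralizer_x D h.cardV
  -- an involution in the centre of a Sylow subgroup
  have h2G : 2 ∣ Nat.card G := by
    rw [hcard]; exact dvd_mul_of_dvd_left (dvd_mul_of_dvd_right (dvd_pow_self 2 (by omega)) p) y
  obtain ⟨t, ht, htS⟩ := SmallOrd.exists_central_involution (G := G) h2G
  have hfac : (Nat.card G).factorization 2 = b := by
    rw [hcard, Nat.factorization_mul (Nat.mul_ne_zero hp.ne_zero (by positivity)) hy0.ne',
      Nat.factorization_mul hp.ne_zero (by positivity)]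
    simp only [Finsupp.add_apply, Nat.factorization_pow, Finsupp.smul_apply, Nat.prime_two.factorization_self,
      Nat.factorization_eq_zero_of_not_dvd h.not_dvd,
      Nat.factorization_eq_zero_of_not_dvd
        (fun e : 2 ∣ p => hp2 ((Nat.prime_dvd_prime_iff_eq Nat.prime_two hp).1 e).symm), smul_eq_mul]
    omega
  rw [hfac] at htS
  set C := Nat.card (Subgroup.centralizer ({t} : Set G)) with hC
  set J := (Subgroup.centralizer ({t} : Set G)).index with hJ
  have hCJ : C * J = p * 2 ^ b * y := hcard ▸ Subgroup.card_mul_index _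
  have hpC : ¬ p ∣ C := by
    intro hd
    obtain ⟨g, ⟨i, v⟩, hi⟩ := D.exists_conj_of_dvd_centralizer hd
    have hto : orderOf (g * t * g⁻¹) = orderOf t :=
      orderOf_injective (MulAut.conj g).toMonoidHom (MulAut.conj g).injective t
    rw [hi, ht] at hto
    haveI := (Nat.card_eq_one_iff_unique.1 h.cardV).1
    rw [Subsingleton.elim v 1] at hto
    by_cases hi0 : i = 0
    · subst hi0
      simp [Data.pt] at hto
    · rw [D.orderOf_pt hi0, OneMemClass.coe_one, OneMemClass.coe_one, orderOf_one, mul_one] at hto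
      exact hp2 hto
  obtain ⟨K, hK⟩ : p ∣ J :=
    (hp.dvd_mul.1 (by rw [hCJ, mul_assoc]; exact dvd_mul_right _ _)).resolve_left hpC
  have hCK : C * K = 2 ^ b * y := by
    refine Nat.eq_of_mul_eq_mul_left hp.pos ?_
    rw [← mul_assoc p (2 ^ b), ← hCJ, hK]; ring
  obtain ⟨C', hC'⟩ := htS
  have hKodd : Odd K := by
    have h1 : C' * K = y := by
      refine Nat.eq_of_mul_eq_mul_left (show 0 < 2 ^ b by positivity) ?_
      rw [← mul_assoc, ← hC', hCK]
    exact (Nat.odd_mul.1 (h1 ▸ hodd)).2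
  have hJodd : Odd J := by
    rw [hK]
    exact Nat.odd_mul.2 ⟨hp.odd_of_ne_two hp2, hKodd⟩
  -- values at the involution
  choose! a ha hlt hcong using fun (χ : IrrCharacter G) (hχ : χ ≠ oneChar) =>
    SmallOrd.exists_involution_value hna χ hχ ht
  -- the principal block for the prime two
  let B : Set (IrrCharacter G) := principalBlock M2 G
  have hB : IsPBlock M2 B := Blocks.isPBlock_principal
  have hx2 : ¬ 2 ∣ orderOf D.x := by
    rw [D.hx]
    exact fun e => hp2 ((Nat.prime_dvd_prime_iff_eq Nat.prime_two hp).1 e).symm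
  obtain ⟨S⟩ : Nonempty (Sylow 2 G) := inferInstance
  haveI : Fintype (S : Subgroup G) := Fintype.ofFinite _
  have hScard : Nat.card (S : Subgroup G) = 2 ^ b := by rw [S.card_eq_multiplicity, hfac]
  choose n hn using fun χ : IrrCharacter G => classInner_character_nat
    (CharBasics.isCharacter_restrict (isCharacter_of_irr χ.2) (S : Subgroup G))
    (oneChar : IrrCharacter (S : Subgroup G))
  have hn' : ∀ χ : IrrCharacter G, ∑ s : (S : Subgroup G), (χ : G → ℂ) (s : G) = (2 ^ b : ℕ) * (n χ : ℂ) := by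
    intro χ
    have h1 := hn χ
    rw [classInner_eq] at h1
    simp only [oneChar_apply, map_one, mul_one, hScard] at h1
    rw [inv_mul_eq_iff_eq_mul₀ (Nat.cast_ne_zero.2 (pow_ne_zero b two_ne_zero))] at h1
    exact h1
  have hvanish : ∀ s : (S : Subgroup G), s ≠ 1 →
      ∑ χ : IrrCharacter G, (if χ ∈ B then (χ : G → ℂ) D.x * conj ((χ : G → ℂ) (s : G)) else 0) = 0 := by
    intro s hs
    have h2 : 2 ∣ orderOf (s : G) := by
      rw [Subgroup.orderOf_coe]
      obtain ⟨k, hk⟩ := IsPGroup.iff_orderOf.1 S.isPGroup' s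
      rw [hk]
      refine dvd_pow_self 2 fun e => hs ?_
      rw [e, pow_zero] at hk
      exact orderOf_eq_one_iff.1 hk
    have h1 := Blocks.weak_block_orth hM2 hB hx2 h2
    rw [finsum_mem_eq_sum_of_subset (t := Finset.univ.filter fun χ => χ ∈ B) _
      (fun χ hχ => by simpa using hχ.1) (fun χ hχ => (Finset.mem_filter.1 hχ).2), Finset.sum_filter] at h1
    exact h1
  let T : ℂ := ∑ χ : IrrCharacter G, if χ ∈ B then (χ : G → ℂ) D.x * (charDegree (χ : G → ℂ) : ℂ) else 0
  have hT : T = (2 ^ b : ℕ) * ∑ χ : IrrCharacter G, if χ ∈ B then (χ : G → ℂ) D.x * (n χ : ℂ) else 0 := by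
    have h1 : ∑ s : (S : Subgroup G),
        ∑ χ : IrrCharacter G, (if χ ∈ B then (χ : G → ℂ) D.x * conj ((χ : G → ℂ) (s : G)) else 0) = T := by
      rw [Finset.sum_eq_single 1 (fun s _ hs => hvanish s hs) (fun h => absurd (Finset.mem_univ _) h)]
      refine Finset.sum_congr rfl fun χ _ => ?_
      rw [OneMemClass.coe_one, apply_one (isCharacter_of_irr χ.2), Complex.conj_natCast]
    rw [← h1, Finset.sum_comm, Finset.mul_sum]
    refine Finset.sum_congr rfl fun χ _ => ?_
    split_ifs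
    · rw [← Finset.mul_sum, ← map_sum, hn', map_mul, Complex.conj_natCast, Complex.conj_natCast]; ring
    · simp
  have hdiv : ∀ z : ℤ, T = (z : ℂ) → (2 : ℤ) ^ b ∣ z := by
    intro z hz
    have h1 : IsIntegral ℤ ((z : ℂ) / ((2 ^ b : ℕ) : ℂ)) := by
      rw [← hz, hT, mul_div_cancel_left₀ _ (Nat.cast_ne_zero.2 (pow_ne_zero b two_ne_zero))]
      refine IsIntegral.sum _ fun χ _ => ?_
      split_ifs
      · exact (CharBasics.isIntegral_apply (isCharacter_of_irr χ.2) D.x).mul
          (isIntegral_algebraMap (R := ℤ) (A := ℂ) (x := (n χ : ℤ)))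
      · exact isIntegral_zero
    have h2 : IsIntegral ℤ ((z.natAbs : ℂ) / ((2 ^ b : ℕ) : ℂ)) := by
      rcases Int.natAbs_eq z with e | e
      · rw [show (z.natAbs : ℂ) = (z : ℂ) by conv_rhs => rw [e, Int.cast_natCast]]
        exact h1
      · rw [show (z.natAbs : ℂ) = -(z : ℂ) by conv_rhs => rw [e, Int.cast_neg, Int.cast_natCast, neg_neg],
          neg_div]
        exact h1.neg
    have h3 := Int.natCast_dvd.2 (nat_dvd_of_isIntegral _ _ (by positivity) h2)
    push_cast at h3
    exact h3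
  -- values at `x`
  have hxout : ∀ χ : IrrCharacter G, χ ∉ D.blk D.one → (χ : G → ℂ) D.x = 0 := fun χ hχ =>
    BrauerReynolds.apply_x_outside D h.cardV hχ
  have hθx : ∑ j, (F.θ j : G → ℂ) D.x = -(F.ε : ℂ) := by
    rw [BrauerFew.x_eq_pt]
    simp only [BrauerFew.apply_pt_one hM (D.theta_mem_blk F _) one_ne_zero]
    rw [Finset.sum_comm]
    simp only [← Finset.sum_mul]
    refine BrauerFew.sum_nonzero_ee one_ne_zero _ (F.ε : ℂ) (by simp [D.d_zero]) fun j hj => ?_
    rw [← Units.val_mk0 hj]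
    simp only [F.d_eq', Int.cast_ite, Int.cast_zero, Finset.sum_ite_eq', Finset.mem_univ, if_true]
  -- the exceptional characters lie in the same block for the prime two
  have hθB : ∀ j, F.θ j ∈ B ↔ F.θ 1 ∈ B := by
    have key : ∀ j j', F.θ j ∈ B → F.θ j' ∈ B := by
      intro j j' hj g
      by_cases hg : p ∣ orderOf g
      · have hJg : (Subgroup.centralizer ({g} : Set G)).index = 2 ^ b * y := by
          obtain ⟨c, i, v, hi, hc⟩ := D.exists_conj_pt hg
          haveI := (Nat.card_eq_one_iff_unique.1 h.cardV).1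
          have hcx : c * g * c⁻¹ = D.x ^ i.val := by rw [hc, Subsingleton.elim v 1]; simp [Data.pt]
          have hpow : Subgroup.zpowers (D.x ^ i.val) = Subgroup.zpowers D.x :=
            Subgroup.eq_of_le_of_card_ge (Subgroup.zpowers_le.2 (Subgroup.npow_mem_zpowers _ _))
              (by rw [Nat.card_zpowers, Nat.card_zpowers, D.orderOf_x_pow hi, D.hx])
          have h1 : (Subgroup.centralizer ({c * g * c⁻¹} : Set G)).index =
              (Subgroup.centralizer ({g} : Set G)).index := by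
            rw [← card_conjClass, ← card_conjClass]
            have hgc : IsConj g (c * g * c⁻¹) := isConj_iff.2 ⟨c, rfl⟩
            exact Nat.card_congr (Equiv.subtypeEquivRight fun z => ⟨fun hz => hgc.trans hz,
              fun hz => hgc.symm.trans hz⟩)
          rw [← h1, hcx, ← Subgroup.centralizer_closure, ← Subgroup.zpowers_eq_closure, hpow,
            Subgroup.zpowers_eq_closure, Subgroup.centralizer_closure, hzx]
          have h2 := Subgroup.card_mul_index (Subgroup.zpowers D.x)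
          rw [Nat.card_zpowers, D.hx, hcard, mul_assoc] at h2
          exact Nat.eq_of_mul_eq_mul_left hp.pos h2
        have hsmall : ∀ k, MemLocalIdeal M2 (centralChar (F.θ k : G → ℂ) g) := by
          intro k
          have h1 : centralChar (F.θ k : G → ℂ) g = ((2 ^ b : ℕ) : ℂ) * (F.θ k : G → ℂ) g := by
            rw [centralChar, hJg, apply_one (isCharacter_of_irr (F.θ k).2), h.deg_theta]
            have : (y : ℂ) ≠ 0 := Nat.cast_ne_zero.2 hy0.ne'
            push_cast
            field_simp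
          rw [h1]
          exact Blocks.memLocalIdeal_mul_right hM2
            ((Blocks.memLocalIdeal_natCast_iff hM2 _).2 (dvd_pow_self 2 (by omega)))
            (Blocks.memLocalRing_of_isIntegral hM2 (CharBasics.isIntegral_apply (isCharacter_of_irr (F.θ k).2) g))
        have := Blocks.memLocalIdeal_sub hM2 (Blocks.memLocalIdeal_add hM2 (hj g) (hsmall j)) (hsmall j')
        simpa using this
      · have h1 : (F.θ j' : G → ℂ) g = (F.θ j : G → ℂ) g := by
          rw [D.theta_regular F j' hg, D.theta_regular F j hg]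
        have h2 : centralChar (F.θ j' : G → ℂ) g = centralChar (F.θ j : G → ℂ) g := by
          simp only [centralChar, h1, apply_one (isCharacter_of_irr (Subtype.property _)), h.deg_theta]
        rw [h2]
        exact hj g
    exact fun j => ⟨key j 1, key 1 j⟩
  -- the sum
  let R : Finset (IrrCharacter G) := Finset.univ.filter fun χ => χ ∈ B ∧ χ ∈ D.rest F ∧ χ ≠ oneChar
  have hmem : ∀ χ, χ ∈ R ↔ χ ∈ B ∧ χ ∈ D.rest F ∧ χ ≠ oneChar := fun χ => by simp [R]
  have honeB : (oneChar : IrrCharacter G) ∈ B := Blocks.oneChar_mem_principal hM2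
  have hθne : ∀ j, F.θ j ≠ oneChar := fun j e => h.one_mem.2 ⟨j, e⟩
  have hsplit : T = 1 + (if F.θ 1 ∈ B then -(F.ε : ℂ) * y else 0) +
      ∑ χ ∈ R, -(D.d χ 1 D.one : ℂ) * (charDegree (χ : G → ℂ) : ℂ) := by
    have hterm : ∀ χ : IrrCharacter G, (if χ ∈ B then (χ : G → ℂ) D.x * (charDegree (χ : G → ℂ) : ℂ) else 0) =
        (if χ = oneChar then (1 : ℂ) else 0) +
        (if χ ∈ R then -(D.d χ 1 D.one : ℂ) * (charDegree (χ : G → ℂ) : ℂ) else 0) +
        (if χ ∈ Finset.univ.image F.θ then (if χ ∈ B then (χ : G → ℂ) D.x * (y : ℂ) else 0) else 0) := by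
      intro χ
      by_cases h1 : χ = oneChar
      · subst h1
        rw [if_pos honeB, if_pos rfl, if_neg (show (oneChar : IrrCharacter G) ∉ R from fun hh => ((hmem _).1 hh).2.2 rfl),
          if_neg (show (oneChar : IrrCharacter G) ∉ Finset.univ.image F.θ from fun hh => by
            obtain ⟨j, -, hj⟩ := Finset.mem_image.1 hh
            exact hθne j hj), oneChar_apply, BrauerFew.deg_oneChar]
        simp
      rw [if_neg h1, zero_add]
      by_cases h2 : χ ∈ Finset.univ.image F.θ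
      · obtain ⟨j, -, rfl⟩ := Finset.mem_image.1 h2
        rw [if_pos h2, if_neg (show F.θ j ∉ R from fun hh => ((hmem _).1 hh).2.1.2 ⟨j, rfl⟩), zero_add, h.deg_theta]
      rw [if_neg h2, add_zero]
      by_cases h3 : χ ∈ R
      · obtain ⟨h4, h5, -⟩ := (hmem χ).1 h3
        rw [if_pos h4, if_pos h3, BrauerReynolds.apply_x_rest D h.cardV hM F h5]
      · rw [if_neg h3]
        split_ifs with h4
        · rw [hxout χ, zero_mul]
          intro hb
          exact h3 ((hmem χ).2 ⟨h4, ⟨hb, fun ⟨j, hj⟩ => h2 (Finset.mem_image.2 ⟨j, Finset.mem_univ _, hj⟩)⟩, h1⟩)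
        · rfl
    show (∑ χ : IrrCharacter G, _) = _
    rw [Finset.sum_congr rfl fun χ _ => hterm χ, Finset.sum_add_distrib, Finset.sum_add_distrib,
      Finset.sum_ite_eq', if_pos (Finset.mem_univ _), Finset.sum_ite_mem, Finset.univ_inter, Finset.sum_ite_mem,
      Finset.univ_inter, Finset.sum_image fun j _ j' _ e => F.inj e]
    have h6 : ∑ j, (if F.θ j ∈ B then (F.θ j : G → ℂ) D.x * (y : ℂ) else 0) =
        if F.θ 1 ∈ B then -(F.ε : ℂ) * y else 0 := by
      simp only [hθB]
      split_ifs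
      · rw [← Finset.sum_mul, hθx]
      · simp
    rw [h6]; ring
  -- the members of `R`
  have hdata : ∀ χ ∈ R, (-D.d χ 1 D.one = 1 ∨ -D.d χ 1 D.one = -1) ∧
      (p : ℤ) ∣ (charDegree (χ : G → ℂ) : ℤ) - -D.d χ 1 D.one ∧ 2 ∣ charDegree (χ : G → ℂ) ∧
      charDegree (χ : G → ℂ) ∣ 2 ^ b * y ∧ |a χ| < (charDegree (χ : G → ℂ) : ℤ) ∧ a χ ≠ 0 ∧
      charDegree (χ : G → ℂ) ∣ (a χ).natAbs * K := by
    intro χ hχ
    obtain ⟨h4, h5, hne⟩ := (hmem χ).1 hχ
    obtain ⟨e1, e2, e3, e4⟩ := dvd_deg_const D hperf Nat.prime_two hcard hy0 hy hM h5.1 (F.const χ h5.2) hne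
    refine ⟨by omega, by rw [sub_neg_eq_add]; exact e4, e1, e3, hlt χ hne, ?_, ?_⟩
    · intro h0
      have h1 := h4 t
      rw [show centralChar (fun _ : G => (1 : ℂ)) t = (J : ℂ) by simp [centralChar, hJ],
        show centralChar (χ : G → ℂ) t = 0 by simp [centralChar, ha χ hne, h0], sub_zero,
        Blocks.memLocalIdeal_natCast_iff hM2] at h1
      exact (Nat.not_even_iff_odd.2 hJodd) (even_iff_two_dvd.2 h1)
    · have hint := CharBasics.isIntegral_centralChar χ.2 t
      rw [centralChar, ← hJ, ha χ hne, apply_one (isCharacter_of_irr χ.2)] at hint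
      have h2 : IsIntegral ℤ (((J * (a χ).natAbs : ℕ) : ℂ) / (charDegree (χ : G → ℂ) : ℂ)) := by
        push_cast
        rcases Int.natAbs_eq (a χ) with e | e
        · rw [show ((a χ).natAbs : ℂ) = (a χ : ℂ) by conv_rhs => rw [e, Int.cast_natCast]]
          exact hint
        · rw [show ((a χ).natAbs : ℂ) = -(a χ : ℂ) by conv_rhs => rw [e, Int.cast_neg, Int.cast_natCast, neg_neg],
            mul_neg, neg_div]
          exact hint.neg
      have h3 := nat_dvd_of_isIntegral _ _ (charDegree_pos χ.2).ne' h2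
      rw [hK, mul_assoc, mul_comm K] at h3
      refine Nat.Coprime.dvd_of_dvd_mul_left ?_ h3
      refine (hp.coprime_iff_not_dvd.2 fun hd => ?_).symm
      have h6 : (p : ℤ) ∣ D.d χ 1 D.one := (dvd_add_right (Int.natCast_dvd_natCast.2 hd)).1 e4
      have h7 := hp.two_le
      rcases e2 with e | e <;> rw [e] at h6
      · have := Int.le_of_dvd one_pos h6; omega
      · rw [Int.dvd_neg] at h6
        have := Int.le_of_dvd one_pos h6; omega
  have hθin : F.θ 1 ∈ B := by
    by_contra hnot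
    rw [if_neg hnot, add_zero] at hsplit
    have h1 := hdiv (1 + ∑ χ ∈ R, -D.d χ 1 D.one * (charDegree (χ : G → ℂ) : ℤ)) (by push_cast; exact hsplit)
    have h2 : (2 : ℤ) ∣ ∑ χ ∈ R, -D.d χ 1 D.one * (charDegree (χ : G → ℂ) : ℤ) :=
      Finset.dvd_sum fun χ hχ => Dvd.dvd.mul_left (Int.natCast_dvd_natCast.2 (hdata χ hχ).2.2.1) _
    have h3 : (2 : ℤ) ∣ 1 := (dvd_add_left h2).1 ((dvd_pow_self 2 (by omega)).trans h1)
    norm_num at h3
  rw [if_pos hθin] at hsplit
  refine ⟨R, a, fun χ => -D.d χ 1 D.one, K, C, ?_, hKodd, hCK, ?_, ?_,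
    fun χ hχ => ⟨((hmem χ).1 hχ).2.1, ((hmem χ).1 hχ).2.2, hdata χ hχ⟩⟩
  · have hH : D.V.index = Nat.card D.H := by rw [← Subgroup.index_mul_card D.V, h.cardV, mul_one]
    rw [← hH, ← D.card_U_one, ← D.card_rest hM F, Nat.card_eq_fintype_card, Fintype.card_subtype]
    have h1 : R.card + 1 = (insert oneChar R).card :=
      (Finset.card_insert_of_notMem fun hh => ((hmem _).1 hh).2.2 rfl).symm
    rw [h1]
    refine Finset.card_le_card fun χ hχ => ?_
    simp only [Finset.mem_filter, Finset.mem_univ, true_and]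
    rcases Finset.mem_insert.1 hχ with rfl | hχ
    · exact h.one_mem
    · exact ((hmem χ).1 hχ).2.1
  · refine hdiv _ ?_
    rw [hsplit]
    push_cast; ring
  · have h1 := sum_normSq_col (G := G) t
    rw [← hC] at h1
    have h2 : ∀ χ ∈ R, ‖(χ : G → ℂ) t‖ ^ 2 = ((a χ ^ 2 : ℤ) : ℝ) := fun χ hχ => by
      rw [ha χ ((hmem χ).1 hχ).2.2, Complex.norm_intCast, sq_abs]; push_cast; rfl
    have h3 : ((∑ χ ∈ R, a χ ^ 2 : ℤ) : ℝ) ≤ ((C : ℤ) : ℝ) := by
      rw [Int.cast_sum, Int.cast_natCast, ← h1, ← Finset.sum_congr rfl h2]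
      exact Finset.sum_le_sum_of_subset_of_nonneg (Finset.subset_univ _) fun χ _ _ => sq_nonneg _
    exact_mod_cast h3

end CfsgLib.PQBrauer
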